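import Mathlib.GroupTheory.Index
import Mathlib.GroupTheory.IndexNormal
import Mathlib.GroupTheory.Sylow
import Mathlib.GroupTheory.Commutator.Basic
import Mathlib.GroupTheory.OrderOfElement

/-!
Windows along a line of conjugates of a subgroup whose successive intersections halve: the
framework for the theorem of Sims on suborbits of length three.
-/

set_option autoImplicit false
set_option linter.style.haveILetI false

namespace Cfsg.Agent.Sims

open Subgroup
open scoped commutatorElement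

variable {G : Type*} [Group G]

/-- Conjugation of a subgroup by the `k`-th power of `g`. -/
def tr (g : G) (k : ℤ) (H : Subgroup G) : Subgroup G := H.map (MulAut.conj (g ^ k)).toMonoidHom

theorem mem_tr {g : G} {k : ℤ} {H : Subgroup G} {x : G} :
    x ∈ tr g k H ↔ (g ^ k)⁻¹ * x * g ^ k ∈ H := by
  rw [tr, mem_map_equiv, MulAut.conj_symm_apply]

theorem conj_mem_tr {g : G} {k : ℤ} {H : Subgroup G} {x : G} :
    g ^ k * x * (g ^ k)⁻¹ ∈ tr g k H ↔ x ∈ H := by
  rw [mem_tr, show (g ^ k)⁻¹ * (g ^ k * x * (g ^ k)⁻¹) * g ^ k = x by group]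

theorem tr_zero (g : G) (H : Subgroup G) : tr g 0 H = H := by
  ext x; rw [mem_tr]; simp

theorem tr_tr (g : G) (a b : ℤ) (H : Subgroup G) : tr g a (tr g b H) = tr g (a + b) H := by
  ext x
  simp only [mem_tr, zpow_add, mul_inv_rev, mul_assoc]

theorem tr_mono {g : G} {k : ℤ} {H K : Subgroup G} (h : H ≤ K) : tr g k H ≤ tr g k K := map_mono h

theorem tr_inf (g : G) (k : ℤ) (H K : Subgroup G) : tr g k (H ⊓ K) = tr g k H ⊓ tr g k K :=
  map_inf _ _ _ (MulEquiv.injective _)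

theorem tr_sup (g : G) (k : ℤ) (H K : Subgroup G) : tr g k (H ⊔ K) = tr g k H ⊔ tr g k K :=
  map_sup _ _ _

theorem card_tr (g : G) (k : ℤ) (H : Subgroup G) : Nat.card ↥(tr g k H) = Nat.card ↥H :=
  card_map_of_injective (MulEquiv.injective _)

theorem tr_injective (g : G) (k : ℤ) : Function.Injective (tr g k) :=
  map_injective (MulEquiv.injective _)

theorem tr_bot (g : G) (k : ℤ) : tr g k ⊥ = ⊥ := Subgroup.map_bot _

theorem tr_le_normalizer {g : G} {k : ℤ} {H K : Subgroup G} (hK : tr g k K = K)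
    (h : H ≤ normalizer (K : Set G)) : tr g k H ≤ normalizer (K : Set G) := by
  intro x hx
  rw [mem_tr] at hx
  refine mem_normalizer_iff.2 fun y => ?_
  have h1 := mem_normalizer_iff.1 (h hx) ((g ^ k)⁻¹ * y * g ^ k)
  rw [← mem_tr, show (g ^ k)⁻¹ * x * g ^ k * ((g ^ k)⁻¹ * y * g ^ k) * ((g ^ k)⁻¹ * x * g ^ k)⁻¹ =
    (g ^ k)⁻¹ * (x * y * x⁻¹) * g ^ k by group, ← mem_tr, hK] at h1
  exact h1

/-- Lagrange for a relative index. -/
theorem card_mul_relIndex {H K : Subgroup G} (h : H ≤ K) :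
    Nat.card ↥H * H.relIndex K = Nat.card ↥K := by
  rw [relIndex, ← (H.subgroupOf K).card_mul_index, Nat.card_congr (subgroupOfEquivOfLe h).toEquiv]

/-- In a finite subgroup `L`, two subgroups meet in a large subgroup. -/
theorem card_mul_card_le [Finite G] {H K L : Subgroup G} (hH : H ≤ L) (hK : K ≤ L) :
    Nat.card ↥H * Nat.card ↥K ≤ Nat.card ↥L * Nat.card ↥(H ⊓ K) := by
  have h1 : H.relIndex K * Nat.card ↥(H ⊓ K) = Nat.card ↥K := by
    rw [← inf_relIndex_right, mul_comm, card_mul_relIndex inf_le_right]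
  have h2 : Nat.card ↥H * H.relIndex L = Nat.card ↥L := card_mul_relIndex hH
  have h3 : H.relIndex K ≤ H.relIndex L := relIndex_le_of_le_right hK (by
    intro h0
    rw [h0, mul_zero] at h2
    exact Nat.card_pos.ne h2)
  calc Nat.card ↥H * Nat.card ↥K = Nat.card ↥H * H.relIndex K * Nat.card ↥(H ⊓ K) := by
        rw [mul_assoc, h1]
    _ ≤ Nat.card ↥H * H.relIndex L * Nat.card ↥(H ⊓ K) :=
        Nat.mul_le_mul_right _ (Nat.mul_le_mul_left _ h3)
    _ = _ := by rw [h2]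

/-- Two different halves generate. -/
theorem sup_of_halves [Finite G] {A B C : Subgroup G} (hA : A ≤ C) (hB : B ≤ C) (hne : A ≠ B)
    (hAC : Nat.card ↥C = 2 * Nat.card ↥A) (hAB : Nat.card ↥A = Nat.card ↥B) : A ⊔ B = C := by
  refine eq_of_le_of_card_ge (sup_le hA hB) ?_
  have h1 : A < A ⊔ B := lt_of_le_of_ne le_sup_left fun h =>
    hne (eq_of_le_of_card_ge (h ▸ le_sup_right : B ≤ A) hAB.le).symm
  obtain ⟨r, hr⟩ := card_dvd_of_le h1.le
  have h2 : Nat.card ↥A < Nat.card ↥(A ⊔ B) :=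
    lt_of_not_ge fun h => h1.ne (eq_of_le_of_card_ge h1.le h)
  have hr2 : 2 ≤ r := by
    by_contra h
    have : r ≤ 1 := by omega
    have := Nat.mul_le_mul_left (Nat.card ↥A) this
    omega
  rw [hr, hAC, mul_comm]
  exact Nat.mul_le_mul_left _ hr2

/-- A half is normal. -/
theorem le_normalizer_of_half [Finite G] {A C : Subgroup G} (hA : A ≤ C)
    (hAC : Nat.card ↥C = 2 * Nat.card ↥A) : C ≤ normalizer (A : Set G) := by
  haveI : (A.subgroupOf C).Normal := normal_of_index_eq_two (by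
    have h1 := card_mul_relIndex hA
    rw [hAC, mul_comm 2] at h1
    exact Nat.eq_of_mul_eq_mul_left Nat.card_pos h1)
  exact (normal_subgroupOf_iff_le_normalizer hA).1 inferInstance

variable (G) in
/-- The data: a subgroup `M` of order `q 2 ^ n`, a conjugate meeting it in `2 ^ n` elements, the
intersections halving, and no common normal subgroup. -/
structure Setting where
  M : Subgroup G
  g : G
  n : ℕ
  q : ℕ
  hq : q.Prime
  hq2 : q ≠ 2
  cardM : Nat.card ↥M = q * 2 ^ n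
  cardS : Nat.card ↥(M ⊓ tr g 1 M) = 2 ^ n
  ne : tr g 1 (M ⊓ tr g 1 M) ≠ M ⊓ tr g 1 M
  half : 2 ^ n ≤ 2 * Nat.card ↥((M ⊓ tr g 1 M) ⊓ tr g 1 (M ⊓ tr g 1 M))
  core : ∀ N : Subgroup G, N ≤ M ⊓ tr g 1 M → M ≤ normalizer (N : Set G) →
    tr g 1 M ≤ normalizer (N : Set G) → N = ⊥

namespace Setting

variable (s : Setting G)

/-- The intersection of `ℓ + 1` successive conjugates. -/
def P : ℕ → Subgroup G
  | 0 => s.M
  | ℓ + 1 => P ℓ ⊓ tr s.g 1 (P ℓ)

theorem P_succ (ℓ : ℕ) : s.P (ℓ + 1) = s.P ℓ ⊓ tr s.g 1 (s.P ℓ) := rfl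

theorem P_anti {a b : ℕ} (h : a ≤ b) : s.P b ≤ s.P a := by
  induction h with
  | refl => exact le_rfl
  | step _ ih => exact le_trans inf_le_left ih

theorem cardP_one : Nat.card ↥(s.P 1) = 2 ^ s.n := s.cardS

variable [Finite G]

theorem card_le_two_mul (ℓ : ℕ) : Nat.card ↥(s.P (ℓ + 1)) ≤ 2 * Nat.card ↥(s.P (ℓ + 2)) := by
  induction ℓ with
  | zero =>
    rw [s.cardP_one]
    exact s.half
  | succ ℓ ih =>
    have h1 : s.P (ℓ + 2) ≤ tr s.g 1 (s.P (ℓ + 1)) := inf_le_right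
    have h2 : tr s.g 1 (s.P (ℓ + 2)) ≤ tr s.g 1 (s.P (ℓ + 1)) := tr_mono inf_le_left
    have h3 := card_mul_card_le h1 h2
    rw [← s.P_succ (ℓ + 2), card_tr, card_tr] at h3
    refine Nat.le_of_mul_le_mul_left ?_ (Nat.card_pos (α := ↥(s.P (ℓ + 2))))
    calc _ ≤ Nat.card ↥(s.P (ℓ + 1)) * Nat.card ↥(s.P (ℓ + 1 + 2)) := h3
      _ ≤ 2 * Nat.card ↥(s.P (ℓ + 2)) * Nat.card ↥(s.P (ℓ + 1 + 2)) := Nat.mul_le_mul_right _ ih
      _ = _ := by ring

theorem exists_stop : ∃ ℓ, s.P (ℓ + 2) = s.P (ℓ + 1) := by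
  by_contra h
  push Not at h
  have hlt : ∀ ℓ, Nat.card ↥(s.P (ℓ + 2)) < Nat.card ↥(s.P (ℓ + 1)) := fun ℓ =>
    lt_of_not_ge fun hge => h ℓ (eq_of_le_of_card_ge (s.P_anti (by omega)) hge)
  have key : ∀ ℓ, Nat.card ↥(s.P (ℓ + 1)) + ℓ ≤ Nat.card ↥(s.P 1) := by
    intro ℓ
    induction ℓ with
    | zero => simp
    | succ ℓ ih =>
      have := hlt ℓ
      show Nat.card ↥(s.P (ℓ + 2)) + (ℓ + 1) ≤ _
      omega
  have := key (Nat.card ↥(s.P 1))
  have := Nat.card_pos (α := ↥(s.P (Nat.card ↥(s.P 1) + 1)))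
  omega

open scoped Classical in
/-- The place where the halving stops. -/
noncomputable def stop : ℕ := Nat.find s.exists_stop

theorem stop_spec : s.P (s.stop + 2) = s.P (s.stop + 1) := by
  classical exact Nat.find_spec s.exists_stop

theorem card_succ_of_lt {ℓ : ℕ} (h : ℓ < s.stop) :
    Nat.card ↥(s.P (ℓ + 1)) = 2 * Nat.card ↥(s.P (ℓ + 2)) := by
  classical
  have hne : s.P (ℓ + 2) ≠ s.P (ℓ + 1) := Nat.find_min s.exists_stop h
  obtain ⟨r, hr⟩ := card_dvd_of_le (s.P_anti (by omega : ℓ + 1 ≤ ℓ + 2))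
  have h1 := s.card_le_two_mul ℓ
  have hr1 : r ≠ 1 := fun h0 => hne (eq_of_le_of_card_ge (s.P_anti (by omega)) (by rw [hr, h0, mul_one]))
  have hr0 : r ≠ 0 := fun h0 => by
    rw [h0, mul_zero] at hr
    exact Nat.card_pos.ne' hr
  have hr2 : r ≤ 2 := by
    refine Nat.le_of_mul_le_mul_left ?_ (Nat.card_pos (α := ↥(s.P (ℓ + 2))))
    rw [← hr, mul_comm _ 2]
    exact h1
  rw [hr, show r = 2 by omega, mul_comm]

theorem cardP_mul {ℓ : ℕ} (h : ℓ ≤ s.stop) : 2 ^ ℓ * Nat.card ↥(s.P (ℓ + 1)) = 2 ^ s.n := by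
  induction ℓ with
  | zero => rw [pow_zero, one_mul, s.cardP_one]
  | succ ℓ ih => rw [← ih (by omega), s.card_succ_of_lt h, pow_succ, mul_assoc]

theorem tr_stop : tr s.g 1 (s.P (s.stop + 1)) = s.P (s.stop + 1) := by
  have h : s.P (s.stop + 1) ≤ tr s.g 1 (s.P (s.stop + 1)) := by
    conv_lhs => rw [← s.stop_spec]
    exact inf_le_right
  exact (eq_of_le_of_card_ge h (card_tr _ _ _).le).symm

theorem stop_pos : 0 < s.stop := by
  refine Nat.pos_of_ne_zero fun h => s.ne ?_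
  have h1 := s.tr_stop
  rw [h] at h1
  exact h1

/-- Left shift of a window stays inside. -/
theorem trNeg_le (m : ℕ) : tr s.g (-1) (s.P (m + 1)) ≤ s.P m := by
  have h : s.P (m + 1) ≤ tr s.g 1 (s.P m) := inf_le_right
  have h1 := tr_mono (g := s.g) (k := -1) h
  rwa [tr_tr, show (-1 : ℤ) + 1 = 0 by norm_num, tr_zero] at h1

theorem sup_eq_of_lt {ℓ : ℕ} (h : ℓ + 1 < s.stop) :
    s.P (ℓ + 2) ⊔ tr s.g (-1) (s.P (ℓ + 2)) = s.P (ℓ + 1) := by
  classical
  refine sup_of_halves (s.P_anti (by omega)) (s.trNeg_le (ℓ + 1)) (fun he => ?_)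
    (s.card_succ_of_lt (by omega)) (card_tr _ _ _).symm
  have hne : s.P (ℓ + 3) ≠ s.P (ℓ + 2) := Nat.find_min s.exists_stop h
  apply hne
  have h1 := congrArg (tr s.g 1) he
  rw [tr_tr, show (1 : ℤ) + -1 = 0 by norm_num, tr_zero] at h1
  rw [s.P_succ (ℓ + 2), h1, inf_idem]

theorem S_le_normalizer_stop : s.P 1 ≤ normalizer (s.P (s.stop + 1) : Set G) := by
  have key : ∀ j ℓ, ℓ + j + 1 = s.stop → s.P (ℓ + 1) ≤ normalizer (s.P (s.stop + 1) : Set G) := by
    intro j
    induction j with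
    | zero =>
      intro ℓ hℓ
      refine le_normalizer_of_half (s.P_anti (by omega)) ?_
      rw [← hℓ]
      exact s.card_succ_of_lt (by omega)
    | succ j ih =>
      intro ℓ hℓ
      rw [← s.sup_eq_of_lt (by omega : ℓ + 1 < s.stop)]
      refine sup_le (ih (ℓ + 1) (by omega)) (tr_le_normalizer ?_ (ih (ℓ + 1) (by omega)))
      conv_lhs => rw [← s.tr_stop, tr_tr, show (-1 : ℤ) + 1 = 0 by norm_num, tr_zero]
  have hpos := s.stop_pos
  exact key (s.stop - 1) 0 (by omega)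

theorem M_gen : s.M = tr s.g (-1) (s.P 1) ⊔ s.P 1 := by
  refine (eq_of_le_of_card_ge (sup_le (s.trNeg_le 0) inf_le_left) ?_).symm
  have h1 : s.P 1 < tr s.g (-1) (s.P 1) ⊔ s.P 1 := by
    refine lt_of_le_of_ne le_sup_right fun h => s.ne ?_
    have h2 : tr s.g (-1) (s.P 1) ≤ s.P 1 := le_sup_left.trans h.ge
    have h3 := congrArg (tr s.g 1) (eq_of_le_of_card_ge h2 (card_tr _ _ _).ge)
    rw [tr_tr, show (1 : ℤ) + -1 = 0 by norm_num, tr_zero] at h3
    exact h3.symm
  obtain ⟨r, hr⟩ := card_dvd_of_le h1.le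
  obtain ⟨r', hr'⟩ := card_dvd_of_le (sup_le (s.trNeg_le 0) inf_le_left :
    tr s.g (-1) (s.P 1) ⊔ s.P 1 ≤ s.M)
  rw [s.cardP_one] at hr
  rw [s.cardM, hr, mul_comm s.q, mul_assoc] at hr'
  have h2 : s.q = r * r' := Nat.eq_of_mul_eq_mul_left (by positivity) hr'
  have hr1 : r ≠ 1 := fun h => h1.ne (eq_of_le_of_card_ge h1.le (by rw [s.cardP_one, hr, h, mul_one]))
  show Nat.card ↥s.M ≤ Nat.card ↥(tr s.g (-1) (s.P 1) ⊔ s.P 1)
  rw [s.cardM, hr, mul_comm, ((Nat.dvd_prime s.hq).1 (Dvd.intro _ h2.symm)).resolve_left hr1]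

theorem stop_bot : s.P (s.stop + 1) = ⊥ := by
  have hS := s.S_le_normalizer_stop
  have hK := s.tr_stop
  have hm : tr s.g (-1) (s.P 1) ≤ normalizer (s.P (s.stop + 1) : Set G) :=
    tr_le_normalizer (by conv_lhs => rw [← hK, tr_tr, show (-1 : ℤ) + 1 = 0 by norm_num, tr_zero]) hS
  have hM : s.M ≤ normalizer (s.P (s.stop + 1) : Set G) := s.M_gen.le.trans (sup_le hm hS)
  exact s.core _ (s.P_anti (a := 1) (by omega)) hM (tr_le_normalizer hK hM)

theorem stop_eq : s.stop = s.n := by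
  have h := s.cardP_mul le_rfl
  rw [s.stop_bot, Subgroup.card_bot, mul_one] at h
  exact Nat.pow_right_injective le_rfl h

theorem n_pos : 0 < s.n := s.stop_eq ▸ s.stop_pos

theorem cardP {ℓ : ℕ} (h : ℓ ≤ s.n) : Nat.card ↥(s.P (ℓ + 1)) = 2 ^ (s.n - ℓ) := by
  have h1 := s.cardP_mul (s.stop_eq.symm ▸ h)
  refine Nat.eq_of_mul_eq_mul_left (show 0 < 2 ^ ℓ by positivity) ?_
  rw [h1, ← pow_add, Nat.add_sub_cancel' h]

theorem exists_alpha : ∃ α ∈ s.P s.n, α ≠ 1 := by
  by_contra h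
  push Not at h
  have hn := s.n_pos
  have h1 := s.cardP (ℓ := s.n - 1) (by omega)
  rw [show s.n - 1 + 1 = s.n by omega, show s.n - (s.n - 1) = 1 by omega,
    show s.P s.n = ⊥ from eq_bot_iff.2 fun x hx => mem_bot.2 (h x hx), Subgroup.card_bot] at h1
  omega

/-- The generator of the shortest nontrivial window. -/
noncomputable def alpha : G := s.exists_alpha.choose

/-- The involutions along the line. -/
noncomputable def a (i : ℤ) : G :=
  s.g ^ (i - s.n) * s.alpha * (s.g ^ (i - s.n))⁻¹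

/-- The window generated by `len` successive involutions from `p` on. -/
def W (p : ℤ) (len : ℕ) : Subgroup G := tr s.g (p + len - 1 - s.n) (s.P (s.n + 1 - len))

theorem card_W {p : ℤ} {len : ℕ} (h : len ≤ s.n) : Nat.card ↥(s.W p len) = 2 ^ len := by
  rw [W, card_tr, show s.n + 1 - len = s.n - len + 1 by omega, s.cardP (by omega),
    show s.n - (s.n - len) = len by omega]

theorem W_zero (p : ℤ) : s.W p 0 = ⊥ := eq_bot_of_card_eq _ (by rw [s.card_W (Nat.zero_le _), pow_zero])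

theorem W_succ {p : ℤ} {len : ℕ} (h1 : 1 ≤ len) (h : len < s.n) :
    s.W p len ⊔ s.W (p + 1) len = s.W p (len + 1) := by
  have e := s.sup_eq_of_lt (ℓ := s.n - len - 1) (by rw [s.stop_eq]; omega)
  have e1 : s.W p (len + 1) = tr s.g (p + len - s.n) (s.P (s.n - len)) := by
    rw [W, show s.n + 1 - (len + 1) = s.n - len by omega,
      show p + ((len + 1 : ℕ) : ℤ) - 1 - s.n = p + len - s.n by push_cast; ring]
  rw [e1, show s.n - len = s.n - len - 1 + 1 by omega, ← e, tr_sup, tr_tr,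
    show s.n - len - 1 + 2 = s.n + 1 - len by omega, sup_comm, W, W,
    show p + 1 + (len : ℤ) - 1 - s.n = p + len - s.n by ring,
    show p + (len : ℤ) - s.n + -1 = p + len - 1 - s.n by ring]

theorem W_inf {p : ℤ} {len : ℕ} (h1 : 1 ≤ len) (h : len ≤ s.n) :
    s.W p len ⊓ s.W (p + 1) len = s.W (p + 1) (len - 1) := by
  rw [W, W, W, show s.n + 1 - (len - 1) = s.n + 1 - len + 1 by omega, s.P_succ, tr_inf, tr_tr]
  rw [show p + 1 + ((len - 1 : ℕ) : ℤ) - 1 - s.n = p + len - 1 - s.n by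
      rw [Nat.cast_sub h1]; push_cast; ring,
    show p + (len : ℤ) - 1 - s.n + 1 = p + 1 + len - 1 - s.n by ring]

theorem W_le_succ {p : ℤ} {len : ℕ} (h : len < s.n) : s.W p len ≤ s.W p (len + 1) := by
  rcases Nat.eq_zero_or_pos len with rfl | h1
  · rw [W_zero]; exact bot_le
  · exact le_sup_left.trans (s.W_succ h1 h).le

theorem W_succ_le {p : ℤ} {len : ℕ} (h : len < s.n) : s.W (p + 1) len ≤ s.W p (len + 1) := by
  rcases Nat.eq_zero_or_pos len with rfl | h1
  · rw [W_zero]; exact bot_le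
  · exact le_sup_right.trans (s.W_succ h1 h).le

theorem a_mem_one (i : ℤ) : s.a i ∈ s.W i 1 := by
  rw [W, show s.n + 1 - 1 = s.n by omega, show i + ((1 : ℕ) : ℤ) - 1 - s.n = i - s.n by push_cast; ring]
  exact conj_mem_tr.2 s.exists_alpha.choose_spec.1

theorem a_ne_one (i : ℤ) : s.a i ≠ 1 := fun h =>
  s.exists_alpha.choose_spec.2 (conj_eq_one_iff.1 h)

theorem W_one_eq (i : ℤ) {x : G} : x ∈ s.W i 1 ↔ x = 1 ∨ x = s.a i := by
  constructor
  · intro hx
    have h2 : Nat.card ↥(s.W i 1) = 2 := by rw [s.card_W s.n_pos]; rfl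
    obtain ⟨u, v, huv, huniv⟩ := Nat.card_eq_two_iff.1 h2
    have key : ∀ y : ↥(s.W i 1), y = 1 ∨ y = ⟨s.a i, s.a_mem_one i⟩ := by
      intro y
      have hy : y ∈ ({u, v} : Set ↥(s.W i 1)) := huniv ▸ Set.mem_univ _
      have h1 : (1 : ↥(s.W i 1)) ∈ ({u, v} : Set ↥(s.W i 1)) := huniv ▸ Set.mem_univ _
      have ha : (⟨s.a i, s.a_mem_one i⟩ : ↥(s.W i 1)) ∈ ({u, v} : Set ↥(s.W i 1)) :=
        huniv ▸ Set.mem_univ _
      have hne : (⟨s.a i, s.a_mem_one i⟩ : ↥(s.W i 1)) ≠ 1 :=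
        fun h => s.a_ne_one i (congrArg Subtype.val h)
      simp only [Set.mem_insert_iff, Set.mem_singleton_iff] at hy h1 ha
      rcases hy with rfl | rfl <;> rcases h1 with rfl | rfl <;> rcases ha with ha | ha <;>
        simp_all
    exact (key ⟨x, hx⟩).imp (congrArg Subtype.val) (congrArg Subtype.val)
  · rintro (rfl | rfl)
    · exact one_mem _
    · exact s.a_mem_one i

theorem a_sq (i : ℤ) : s.a i * s.a i = 1 := by
  rcases (s.W_one_eq i).1 (mul_mem (s.a_mem_one i) (s.a_mem_one i)) with h | h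
  · exact h
  · exact absurd (mul_eq_left.1 h) (s.a_ne_one i)

theorem a_inv (i : ℤ) : (s.a i)⁻¹ = s.a i := inv_eq_of_mul_eq_one_right (s.a_sq i)

theorem a_mem {p i : ℤ} {len : ℕ} (h : len ≤ s.n) (h1 : p ≤ i) (h2 : i < p + len) :
    s.a i ∈ s.W p len := by
  induction len generalizing p with
  | zero => simp at h2; omega
  | succ len ih =>
    rcases Nat.eq_zero_or_pos len with rfl | hl
    · rw [show p = i by omega]; exact s.a_mem_one i
    · rcases eq_or_lt_of_le h1 with he | hlt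
      · exact s.W_le_succ (by omega) (ih (by omega) (by omega) (by omega))
      · exact s.W_succ_le (by omega) (ih (by omega) (by omega) (by push_cast at h2 ⊢; omega))

theorem W_le {p : ℤ} {len : ℕ} (h : len ≤ s.n) {H : Subgroup G}
    (hH : ∀ i, p ≤ i → i < p + len → s.a i ∈ H) : s.W p len ≤ H := by
  induction len generalizing p with
  | zero => rw [W_zero]; exact bot_le
  | succ len ih =>
    rcases Nat.eq_zero_or_pos len with rfl | hl
    · intro x hx
      rcases (s.W_one_eq p).1 hx with rfl | rfl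
      · exact one_mem _
      · exact hH p le_rfl (by omega)
    · rw [← s.W_succ hl (by omega)]
      exact sup_le (ih (by omega) fun i hi hi' => hH i hi (by push_cast; omega))
        (ih (by omega) fun i hi hi' => hH i (by omega) (by push_cast; omega))

theorem a_shift (i k : ℤ) : s.g ^ k * s.a i * (s.g ^ k)⁻¹ = s.a (i + k) := by
  simp only [a, show i + k - (s.n : ℤ) = k + (i - s.n) by ring, zpow_add, mul_inv_rev, mul_assoc]

theorem W_shift (p k : ℤ) (len : ℕ) : tr s.g k (s.W p len) = s.W (p + k) len := by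
  rw [W, W, tr_tr, show k + (p + (len : ℤ) - 1 - s.n) = p + k + len - 1 - s.n by ring]

theorem comm_shift {i j p : ℤ} {len : ℕ} (k : ℤ) (h : ⁅s.a i, s.a j⁆ ∈ s.W p len) :
    ⁅s.a (i + k), s.a (j + k)⁆ ∈ s.W (p + k) len := by
  rw [← s.W_shift, ← s.a_shift, ← s.a_shift,
    show ⁅s.g ^ k * s.a i * (s.g ^ k)⁻¹, s.g ^ k * s.a j * (s.g ^ k)⁻¹⁆ =
      s.g ^ k * ⁅s.a i, s.a j⁆ * (s.g ^ k)⁻¹ by simp only [commutatorElement_def]; group]
  exact conj_mem_tr.2 h

theorem commute_shift {i j : ℤ} (k : ℤ) (h : Commute (s.a i) (s.a j)) :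
    Commute (s.a (i + k)) (s.a (j + k)) := by
  rw [← s.a_shift, ← s.a_shift, Commute, SemiconjBy]
  calc _ = s.g ^ k * (s.a i * s.a j) * (s.g ^ k)⁻¹ := by group
    _ = _ := by rw [h.eq]; group

/-- The decomposition along the first generator. -/
theorem decomp_left {p : ℤ} {len : ℕ} (h : len + 1 ≤ s.n) {x : G} (hx : x ∈ s.W p (len + 1)) :
    x ∈ s.W (p + 1) len ∨ s.a p * x ∈ s.W (p + 1) len := by
  have hle : s.W (p + 1) len ≤ s.W p (len + 1) := s.W_succ_le (by omega)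
  have hap : s.a p ∈ s.W p (len + 1) := s.a_mem h le_rfl (by push_cast; omega)
  have hnot : s.a p ∉ s.W (p + 1) len := fun h0 => by
    have h1 : s.W p (len + 1) ≤ s.W (p + 1) len := s.W_le h fun i hi hi' => by
      rcases eq_or_lt_of_le hi with rfl | hlt
      · exact h0
      · exact s.a_mem (by omega) (by omega) (by push_cast at hi' ⊢; omega)
    have h2 := card_le_of_le h1
    rw [s.card_W h, s.card_W (by omega), pow_succ] at h2
    have : 0 < 2 ^ len := by positivity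
    omega
  refine or_iff_not_imp_left.2 fun hx' => ?_
  have hi : ((s.W (p + 1) len).subgroupOf (s.W p (len + 1))).index = 2 := by
    have h1 := card_mul_relIndex hle
    rw [s.card_W h, s.card_W (by omega), pow_succ] at h1
    exact Nat.eq_of_mul_eq_mul_left (by positivity) h1
  have h3 := (mul_mem_iff_of_index_two hi (a := ⟨_, hap⟩) (b := ⟨x, hx⟩)).2
    (iff_of_false hnot hx')
  exact h3

/-- The decomposition along the last generator. -/
theorem decomp_right {p : ℤ} {len : ℕ} (h : len + 1 ≤ s.n) {x : G} (hx : x ∈ s.W p (len + 1)) :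
    x ∈ s.W p len ∨ x * s.a (p + len) ∈ s.W p len := by
  have hle : s.W p len ≤ s.W p (len + 1) := s.W_le_succ (by omega)
  have hap : s.a (p + len) ∈ s.W p (len + 1) := s.a_mem h (by omega) (by push_cast; omega)
  have hnot : s.a (p + len) ∉ s.W p len := fun h0 => by
    have h1 : s.W p (len + 1) ≤ s.W p len := s.W_le h fun i hi hi' => by
      by_cases he : i = p + len
      · rw [he]; exact h0
      · exact s.a_mem (by omega) hi (by push_cast at hi' ⊢; omega)
    have h2 := card_le_of_le h1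
    rw [s.card_W h, s.card_W (by omega), pow_succ] at h2
    have : 0 < 2 ^ len := by positivity
    omega
  refine or_iff_not_imp_left.2 fun hx' => ?_
  have hi : ((s.W p len).subgroupOf (s.W p (len + 1))).index = 2 := by
    have h1 := card_mul_relIndex hle
    rw [s.card_W h, s.card_W (by omega), pow_succ] at h1
    exact Nat.eq_of_mul_eq_mul_left (by positivity) h1
  exact (mul_mem_iff_of_index_two hi (a := ⟨x, hx⟩) (b := ⟨_, hap⟩)).2 (iff_of_false hx' hnot)

theorem comm_mem {p : ℤ} {len : ℕ} (h1 : 1 ≤ len) (h : len < s.n) :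
    ⁅s.a p, s.a (p + len)⁆ ∈ s.W (p + 1) (len - 1) := by
  rw [← s.W_inf h1 h.le, mem_inf]
  have hA : s.a p ∈ s.W p len := s.a_mem h.le le_rfl (by omega)
  have hB : s.a (p + len) ∈ s.W (p + 1) len := s.a_mem h.le (by omega) (by omega)
  have hcard : ∀ q, Nat.card ↥(s.W p (len + 1)) = 2 * Nat.card ↥(s.W q len) := fun q => by
    rw [s.card_W h, s.card_W h.le, pow_succ']
  have nA := le_normalizer_of_half (s.W_le_succ h) (hcard p)
  have nB := le_normalizer_of_half (s.W_succ_le h) (hcard (p + 1))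
  rw [commutatorElement_def]
  constructor
  · have h2 := (mem_normalizer_iff.1 (nA (s.W_succ_le h hB)) _).1 (inv_mem hA)
    rw [mul_assoc, mul_assoc, ← mul_assoc (s.a (p + len))]
    exact mul_mem hA h2
  · have h2 := (mem_normalizer_iff.1 (nB (s.W_le_succ h hA)) _).1 hB
    exact mul_mem h2 (inv_mem hB)

theorem S_eq : s.W 1 s.n = s.P 1 := by
  rw [W, show s.n + 1 - s.n = 1 by omega, show (1 : ℤ) + s.n - 1 - s.n = 0 by ring, tr_zero]

theorem S'_eq : s.W 0 s.n = tr s.g (-1) (s.P 1) := by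
  rw [W, show s.n + 1 - s.n = 1 by omega, show (0 : ℤ) + s.n - 1 - s.n = -1 by ring]

theorem M_le {H : Subgroup G} (h : ∀ i : ℤ, 0 ≤ i → i ≤ s.n → s.a i ∈ H) : s.M ≤ H := by
  rw [s.M_gen, ← s.S'_eq, ← s.S_eq]
  exact sup_le (s.W_le le_rfl fun i hi hi' => h i hi (by omega))
    (s.W_le le_rfl fun i hi hi' => h i (by omega) (by omega))

theorem a_mem_M {i : ℤ} (h0 : 0 ≤ i) (hn : i ≤ s.n) : s.a i ∈ s.M := by
  have hnp := s.n_pos
  rw [s.M_gen, ← s.S'_eq, ← s.S_eq]
  rcases eq_or_lt_of_le h0 with rfl | hpos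
  · exact mem_sup_left (s.a_mem le_rfl le_rfl (by omega))
  · exact mem_sup_right (s.a_mem le_rfl (by omega) (by omega))

theorem trM_le {H : Subgroup G} (h : ∀ i : ℤ, 1 ≤ i → i ≤ s.n + 1 → s.a i ∈ H) :
    tr s.g 1 s.M ≤ H := by
  rw [s.M_gen, tr_sup, ← s.S'_eq, ← s.S_eq, s.W_shift, s.W_shift]
  exact sup_le (s.W_le le_rfl fun i hi hi' => h i (by omega) (by omega))
    (s.W_le le_rfl fun i hi hi' => h i (by omega) (by omega))

/-- A subgroup of `S` normalised by all the involutions from `0` to `n + 1` is trivial. -/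
theorem eq_bot_of_normalized {N : Subgroup G} (hN : N ≤ s.W 1 s.n)
    (h : ∀ i : ℤ, 0 ≤ i → i ≤ s.n + 1 → s.a i ∈ normalizer (N : Set G)) : N = ⊥ :=
  s.core N (hN.trans s.S_eq.le) (s.M_le fun i hi hi' => h i hi (by omega))
    (s.trM_le fun i hi hi' => h i (by omega) (by omega))

theorem false_of_central {i : ℤ} (h1 : 1 ≤ i) (hn : i ≤ s.n)
    (h : ∀ j : ℤ, 0 ≤ j → j ≤ s.n + 1 → Commute (s.a i) (s.a j)) : False := by
  refine s.a_ne_one i (mem_bot.1 ((s.eq_bot_of_normalized (N := zpowers (s.a i))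
    (zpowers_le.2 (s.a_mem le_rfl h1 (by omega))) fun j hj hj' => ?_).le (mem_zpowers _)))
  refine centralizer_le_normalizer _ (mem_centralizer_iff.2 fun y hy => ?_)
  obtain ⟨t, rfl⟩ := hy
  exact ((h j hj hj').zpow_left t).eq

end Setting

end Cfsg.Agent.Sims
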