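import Cfsg.Agent.Lib.Sims.Small
import Cfsg.Agent.S3682
import Mathlib.GroupTheory.GroupAction.Primitive
import Mathlib.GroupTheory.SpecificGroups.Cyclic

/-!
Primitive groups with a suborbit of length three give lines of windows.
-/

set_option autoImplicit false
set_option linter.style.haveILetI false

namespace Cfsg.Agent.Sims

open Subgroup MulAction

variable {G : Type*} [Group G]

theorem mem_tr_one {g : G} {H : Subgroup G} {x : G} : x ∈ tr g 1 H ↔ g⁻¹ * x * g ∈ H := by
  rw [mem_tr, zpow_one]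

/-- A subgroup of order coprime to the index of a normal subgroup lies in it. -/
theorem le_of_coprime {P N B : Subgroup G} (hP : P ≤ B) (hN : N ≤ B)
    (hn : B ≤ normalizer (N : Set G)) (hc : (Nat.card ↥P).Coprime (N.relIndex B)) : P ≤ N := by
  haveI : (N.subgroupOf B).Normal := (normal_subgroupOf_iff_le_normalizer hN).2 hn
  intro x hx
  let y : ↥B ⧸ N.subgroupOf B := QuotientGroup.mk' _ ⟨x, hP hx⟩
  have h1 : orderOf y ∣ Nat.card ↥P :=
    (orderOf_map_dvd (QuotientGroup.mk' _) _).trans (by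
      rw [Subgroup.orderOf_mk]; exact Subgroup.orderOf_dvd_natCard P hx)
  have h2 : orderOf y ∣ N.relIndex B := orderOf_dvd_natCard y
  exact mem_subgroupOf.1 ((QuotientGroup.eq_one_iff _).1
    (orderOf_eq_one_iff.1 (Nat.eq_one_of_dvd_coprimes hc h1 h2)))

theorem tr_normalizer_le {g : G} {k : ℤ} {H K : Subgroup G} (h : H ≤ normalizer (K : Set G)) :
    tr g k H ≤ normalizer (tr g k K : Set G) := by
  refine le_trans (tr_mono h) ?_
  exact le_normalizer_map _

variable [Finite G] {Ω : Type*} [MulAction G Ω]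

theorem relIndex_tr (g : G) (k : ℤ) {H K : Subgroup G} (h : H ≤ K) :
    (tr g k H).relIndex (tr g k K) = H.relIndex K := by
  have h1 := card_mul_relIndex h
  have h2 := card_mul_relIndex (tr_mono (g := g) (k := k) h)
  rw [card_tr, card_tr, ← h1] at h2
  exact Nat.eq_of_mul_eq_mul_left Nat.card_pos h2

theorem eq_bot_of_fix [FaithfulSMul G Ω] [IsPretransitive G Ω] {N : Subgroup G}
    (hN : (⊤ : Subgroup G) ≤ normalizer (N : Set G)) {a : Ω} (ha : N ≤ stabilizer G a) : N = ⊥ := by
  rw [eq_bot_iff]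
  intro x hx
  refine mem_bot.2 (FaithfulSMul.eq_of_smul_eq_smul (α := Ω) fun w => ?_)
  obtain ⟨h, rfl⟩ := exists_smul_eq G a w
  have h1 : h⁻¹ * x * h ∈ N := by
    have := (mem_normalizer_iff.1 (hN (mem_top h⁻¹)) x).1 hx
    rwa [inv_inv] at this
  have h2 : (h⁻¹ * x * h) • a = a := ha h1
  rw [one_smul, ← mul_smul]
  conv_rhs => rw [← h2, ← mul_smul]
  congr 1
  group

/-- A stabiliser with a suborbit of length three has order three or carries a line of windows. -/
theorem suborbit_three [FaithfulSMul G Ω] [Finite Ω] (hprim : IsPreprimitive G Ω) (a b : Ω)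
    (h3 : Nat.card (orbit (stabilizer G a) b) = 3) :
    Nat.card ↥(stabilizer G a) = 3 ∨ ∃ s : Setting G, s.M = stabilizer G a ∧ s.q = 3 := by
  classical
  haveI := hprim.toIsPretransitive
  haveI := TW.nontrivial_points a b h3 (by norm_num)
  obtain ⟨g₀, hg₀⟩ := exists_smul_eq G a b
  set A := stabilizer G a with hA
  set B := stabilizer G b with hB
  have hconj : ∀ g : G, g • a = b → tr g 1 A = B := by
    intro g hg
    rw [hB, ← hg, tr, zpow_one, hA]
    exact TW.stabilizer_map g a
  have hcardB : Nat.card ↥B = Nat.card ↥A := by rw [← hconj g₀ hg₀, card_tr]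
  set S := A ⊓ B with hS
  have hidx : 3 * Nat.card ↥S = Nat.card ↥A := by
    rw [← h3]; exact TW.natCard_orbit_mul a b
  have hrelA : S.relIndex A = 3 := by
    have h1 := card_mul_relIndex (inf_le_left : S ≤ A)
    rw [← hidx, mul_comm 3] at h1
    exact Nat.eq_of_mul_eq_mul_left Nat.card_pos h1
  have hne : A ≠ B := TW.stabilizer_ne a b h3 (by norm_num)
  have hmax : IsCoatom A := IsPreprimitive.isCoatom_stabilizer_of_isPreprimitive G a
  have hgen : A ⊔ B = ⊤ := hmax.2 _ (lt_of_le_of_ne le_sup_left fun h => hne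
    (eq_of_le_of_card_ge (h ▸ le_sup_right : B ≤ A) hcardB.ge).symm)
  have hcore : ∀ N : Subgroup G, N ≤ S → A ≤ normalizer (N : Set G) →
      B ≤ normalizer (N : Set G) → N = ⊥ := fun N hN hNA hNB =>
    eq_bot_of_fix (hgen.symm.le.trans (sup_le hNA hNB)) (hN.trans inf_le_left)
  obtain ⟨p, hp, P₀, hP₀n, hP₀p, hP₀fix, hP₀i⟩ := S3682.result hprim a b 3 h3 (by norm_num)
  haveI : Fact p.Prime := ⟨hp⟩
  set P := P₀.map A.subtype with hPdef
  have hPA : P ≤ A := map_subtype_le _
  have hPS : P ≤ S := le_inf hPA (by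
    rintro _ ⟨x, hx, rfl⟩
    exact hP₀fix ⟨x, hx⟩)
  have hPn : A ≤ normalizer (P : Set G) := (normal_subgroupOf_iff_le_normalizer hPA).1 (by
    rw [hPdef, subgroupOf, comap_map_eq_self_of_injective A.subtype_injective]; exact hP₀n)
  have hPp : IsPGroup p ↥P := hP₀p.map _
  have hrel : P.relIndex A ∣ 48 := by
    rw [relIndex, hPdef, subgroupOf, comap_map_eq_self_of_injective A.subtype_injective]
    simpa [Nat.factorial] using hP₀i
  have hcardP : Nat.card ↥P * P.relIndex A = Nat.card ↥A := card_mul_relIndex hPA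
  set P' := tr g₀ 1 P with hP'
  have hP'B : P' ≤ B := (tr_mono hPA).trans (hconj g₀ hg₀).le
  have hP'n : B ≤ normalizer (P' : Set G) := hconj g₀ hg₀ ▸ tr_normalizer_le hPn
  have hP'rel : P'.relIndex B = P.relIndex A := by
    rw [← hconj g₀ hg₀]; exact relIndex_tr g₀ 1 hPA
  have hP'p : IsPGroup p ↥P' := hPp.map _
  have hkill : P ≤ P' → P = ⊥ := fun h => by
    have e : P = P' := eq_of_le_of_card_ge h (card_tr g₀ 1 P).le
    exact hcore P hPS hPn (e ▸ hP'n)
  obtain ⟨m, hm⟩ := IsPGroup.iff_card.1 hPp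
  have h48 : Nat.card ↥S ∣ 16 * 2 ^ m ∨ P = ⊥ := by
    by_cases hp2 : p = 2
    · subst hp2
      left
      have h1 : Nat.card ↥A ∣ 2 ^ m * 48 := by
        rw [← hcardP, hm]; exact Nat.mul_dvd_mul_left _ hrel
      rw [← hidx, show 2 ^ m * 48 = 3 * (16 * 2 ^ m) by ring] at h1
      exact Nat.dvd_of_mul_dvd_mul_left (by norm_num) h1
    right
    by_cases hp3 : p = 3
    · subst hp3
      by_contra hPbot
      -- the subgroup generated by the two `3`-groups
      have hPB : P ≤ B := hPS.trans inf_le_right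
      have hR : IsPGroup 3 ↥(P ⊔ P') :=
        hPp.to_sup_of_normal_right' hP'p (hPB.trans hP'n)
      obtain ⟨k, hk⟩ := IsPGroup.iff_card.1 hR
      have hj : Nat.Coprime 3 (P.relIndex S) := by
        have h1 : P.relIndex S * S.relIndex A = P.relIndex A := relIndex_mul_relIndex P S A hPS inf_le_left
        rw [hrelA] at h1
        rw [← h1, mul_comm, show 48 = 3 * 16 by rfl] at hrel
        refine Nat.Coprime.coprime_dvd_right (Nat.dvd_of_mul_dvd_mul_left (by norm_num) hrel) ?_
        decide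
      have hP'S : ¬ P' ≤ S := fun h => hPbot (hkill (le_of_eq (eq_of_le_of_card_ge
        (le_of_coprime h hPS ((inf_le_left : S ≤ A).trans hPn) (by
          rw [card_tr, hm]; exact hj.pow_left m)) (card_tr g₀ 1 P).ge).symm))
      have hk2 : k ≤ m + 1 := by
        have h1 : 3 ^ k ∣ Nat.card ↥A := by
          rw [← hk, ← hcardB]; exact card_dvd_of_le (sup_le hPB hP'B)
        have hS : Nat.card ↥S = 3 ^ m * P.relIndex S := by rw [← hm, card_mul_relIndex hPS]
        rw [← hidx, hS, ← mul_assoc, ← pow_succ'] at h1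
        exact (Nat.pow_dvd_pow_iff_le_right (by norm_num)).1
          ((Nat.Coprime.pow_left k hj).dvd_of_dvd_mul_right h1)
      have hlt : P < P ⊔ P' := lt_of_le_of_ne le_sup_left fun h =>
        hP'S ((le_sup_right.trans h.ge).trans hPS)
      have hk1 : m < k := by
        by_contra hle
        refine hlt.ne (eq_of_le_of_card_ge hlt.le ?_)
        rw [hk, hm]
        exact Nat.pow_le_pow_right (by norm_num) (by omega)
      have hidx3 : (P.subgroupOf (P ⊔ P')).index = 3 := by
        have h1 := card_mul_relIndex (le_sup_left : P ≤ P ⊔ P')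
        rw [hk, hm, show k = m + 1 by omega, pow_succ] at h1
        exact Nat.eq_of_mul_eq_mul_left (pow_pos (by norm_num) _) h1
      haveI : (P.subgroupOf (P ⊔ P')).Normal := normal_of_index_eq_minFac_card (by
        rw [hidx3, hk, Nat.Prime.pow_minFac Nat.prime_three (by omega)])
      have hP'N : P' ≤ normalizer (P : Set G) :=
        le_sup_right.trans ((normal_subgroupOf_iff_le_normalizer le_sup_left).1 inferInstance)
      have hX : S ⊔ P' = B := by
        have hle : S ⊔ P' ≤ B := sup_le inf_le_right hP'B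
        refine eq_of_le_of_card_ge hle ?_
        have hlt' : S < S ⊔ P' :=
          lt_of_le_of_ne le_sup_left fun h => hP'S (le_sup_right.trans h.ge)
        obtain ⟨r, hr⟩ := card_dvd_of_le hlt'.le
        obtain ⟨r', hr'⟩ := card_dvd_of_le hle
        rw [hcardB, ← hidx, hr, mul_assoc, mul_comm 3] at hr'
        have h2 : 3 = r * r' := Nat.eq_of_mul_eq_mul_left Nat.card_pos hr'
        have hr1 : r ≠ 1 := fun h =>
          hlt'.ne (eq_of_le_of_card_ge hlt'.le (by rw [hr, h, mul_one]))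
        rw [hcardB, ← hidx, hr,
          ((Nat.dvd_prime Nat.prime_three).1 (Dvd.intro _ h2.symm)).resolve_left hr1, mul_comm]
      exact hPbot (hcore P hPS hPn (hX ▸ sup_le ((inf_le_left : S ≤ A).trans hPn) hP'N))
    · refine hkill (le_of_coprime (hPS.trans inf_le_right) hP'B hP'n ?_)
      rw [hP'rel, hm]
      refine Nat.Coprime.pow_left m (Nat.Coprime.coprime_dvd_right hrel ?_)
      rw [show 48 = 2 ^ 4 * 3 by norm_num]
      exact Nat.Coprime.mul_right (((Nat.coprime_primes hp Nat.prime_two).2 hp2).pow_right 4)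
        ((Nat.coprime_primes hp Nat.prime_three).2 hp3)
  obtain ⟨n, hn⟩ : ∃ n, Nat.card ↥S = 2 ^ n := by
    rcases h48 with h | h
    · rw [show 16 = 2 ^ 4 by norm_num, ← pow_add] at h
      obtain ⟨i, -, hi⟩ := (Nat.dvd_prime_pow Nat.prime_two).1 h
      exact ⟨i, hi⟩
    · have h1 : Nat.card ↥A ∣ 48 := by
        rw [← hcardP, h, Subgroup.card_bot, one_mul]; rwa [h] at hrel
      rw [← hidx, show 48 = 3 * 2 ^ 4 by norm_num] at h1
      obtain ⟨i, -, hi⟩ := (Nat.dvd_prime_pow Nat.prime_two).1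
        (Nat.dvd_of_mul_dvd_mul_left (by norm_num) h1)
      exact ⟨i, hi⟩
  by_cases hSn : A ≤ normalizer (S : Set G)
  · left
    have e : S = tr g₀ 1 S := by
      refine eq_of_le_of_card_ge (le_of_coprime inf_le_right
        ((tr_mono inf_le_left).trans (hconj g₀ hg₀).le)
        (hconj g₀ hg₀ ▸ tr_normalizer_le hSn) ?_) (card_tr g₀ 1 S).le
      rw [← hconj g₀ hg₀, relIndex_tr g₀ 1 inf_le_left, hrelA, hn]
      exact Nat.Coprime.pow_left n (by decide)
    have hbot : S = ⊥ := hcore S le_rfl hSn (by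
      rw [← hconj g₀ hg₀]
      conv_rhs => rw [e]
      exact tr_normalizer_le hSn)
    rw [← hidx, hbot, Subgroup.card_bot]
  · right
    obtain ⟨g, hga, hgS⟩ : ∃ g : G, g • a = b ∧ tr g 1 S ≠ S := by
      by_contra hall
      push Not at hall
      refine hSn fun x hx => mem_normalizer_iff.2 fun y => ?_
      have h1 := hall g₀ hg₀
      have h2 := hall (g₀ * x) (by rw [mul_smul, show x • a = a from hx, hg₀])
      have h3 : ∀ z, z ∈ tr (g₀ * x) 1 S ↔ z ∈ tr g₀ 1 S := fun z => by rw [h2, h1]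
      have h4 := h3 (g₀ * x * y * (g₀ * x)⁻¹)
      rw [mem_tr_one, mem_tr_one,
        show (g₀ * x)⁻¹ * (g₀ * x * y * (g₀ * x)⁻¹) * (g₀ * x) = y by group,
        show g₀⁻¹ * (g₀ * x * y * (g₀ * x)⁻¹) * g₀ = x * y * x⁻¹ by group] at h4
      exact h4
    have hgA : tr g 1 A = B := hconj g hga
    refine ⟨⟨A, g, n, 3, Nat.prime_three, by norm_num, by rw [← hidx, hn],
      by rw [hgA]; exact hn, by rw [hgA]; exact hgS, ?_,
      fun N hN hNA hNB => hcore N (by rw [hgA] at hN; exact hN) hNA (by rw [hgA] at hNB; exact hNB)⟩, rfl, rfl⟩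
    rw [hgA]
    have h1 := card_mul_card_le (L := B) (inf_le_right : S ≤ B)
      ((tr_mono (inf_le_left : S ≤ A)).trans hgA.le)
    obtain ⟨i, -, hi⟩ := (Nat.dvd_prime_pow Nat.prime_two).1
      (hn ▸ card_dvd_of_le (inf_le_left : S ⊓ tr g 1 S ≤ S))
    rw [card_tr, hn, hcardB, ← hidx, hn, hi] at h1
    rw [← hS, hi, ← pow_succ']
    refine Nat.pow_le_pow_right two_pos ?_
    have h2 : 2 ^ n ≤ 3 * 2 ^ i := Nat.le_of_mul_le_mul_right (by
      calc 2 ^ n * 2 ^ n ≤ 3 * 2 ^ n * 2 ^ i := h1
        _ = _ := by ring) (pow_pos two_pos n)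
    have h3 : 2 ^ n < 2 ^ (i + 2) := by
      rw [show 2 ^ (i + 2) = 4 * 2 ^ i by ring]
      have : 0 < 2 ^ i := pow_pos two_pos i
      omega
    have := (Nat.pow_lt_pow_iff_right (by norm_num : 1 < 2)).1 h3
    omega

end Cfsg.Agent.Sims
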